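import Groth.Agent.Lib.Graded.Ver.Cohom
import Mathlib.LinearAlgebra.Dimension.Basic
import Mathlib.LinearAlgebra.Dimension.Finrank

/-!
# Pieces of Veronese submodules over the degree zero subrings
-/

universe u

set_option maxHeartbeats 800000
set_option linter.unusedSectionVars false

open DirectSum

namespace Groth.Agent.Lib.Graded.Ver

open Groth.Agent.Lib.Graded.Basic

variable {R R' : Type u} [CommRing R] [CommRing R']
variable {𝒜 : ℤ → AddSubgroup R} [GradedRing 𝒜] {𝒜' : ℤ → AddSubgroup R'} [GradedRing 𝒜']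
variable {φ : R' →+* R} {q : ℕ}

/-- The two degree zero subrings agree. -/
noncomputable def Sys.deg0Equiv (h : Sys 𝒜 𝒜' φ q) : GrLC.deg0 𝒜' ≃+* GrLC.deg0 𝒜 :=
  RingEquiv.ofBijective (φ.restrict (GrLC.deg0 𝒜') (GrLC.deg0 𝒜) fun x hx => by
      have := h.map_mem (show x ∈ 𝒜' 0 from hx); rwa [zero_mul] at this)
    ⟨fun a b hab => Subtype.ext (h.injective (congrArg Subtype.val hab)), fun y => by
      obtain ⟨x, hx, hxy⟩ := h.exists_preimage (j := 0) (show y.1 ∈ 𝒜 (0 * q) by rw [zero_mul]; exact y.2)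
      exact ⟨⟨x, hx⟩, Subtype.ext hxy⟩⟩

variable {M : Type u} [AddCommGroup M] [Module R M] {M' : Type u} [AddCommGroup M'] [Module R' M']
variable {ℳ : ℤ → AddSubgroup M} {ℳ' : ℤ → AddSubgroup M'}

theorem finrank_eq (h : Sys 𝒜 𝒜' φ q) {g : M' →ₛₗ[φ] M} (hg : IsVer q ℳ ℳ' g) {j : ℤ}
    (P : Submodule (GrLC.deg0 𝒜') M') (Q : Submodule (GrLC.deg0 𝒜) M)
    (hP : ∀ x, x ∈ P ↔ x ∈ ℳ' j) (hQ : ∀ x, x ∈ Q ↔ x ∈ ℳ (j * q)) :
    Module.finrank (GrLC.deg0 𝒜') P = Module.finrank (GrLC.deg0 𝒜) Q := by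
  let e : P →+ Q := AddMonoidHom.mk' (fun x => ⟨g x.1, (hQ _).2 (hg.deg j ▸ AddSubgroup.mem_map_of_mem _ ((hP _).1 x.2))⟩)
    fun a b => Subtype.ext (map_add g a.1 b.1)
  have he : Function.Bijective e := ⟨fun a b hab => Subtype.ext (hg.injective (congrArg Subtype.val hab)),
    fun y => by
      obtain ⟨x, hx, hxy⟩ := (hg.deg j).ge ((hQ _).1 y.2)
      exact ⟨⟨x, (hP x).2 hx⟩, Subtype.ext hxy⟩⟩
  have hr := rank_eq_of_equiv_equiv (R := GrLC.deg0 𝒜') (R' := GrLC.deg0 𝒜) (M := P) (M₁ := Q)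
    h.deg0Equiv (AddEquiv.ofBijective e he) h.deg0Equiv.bijective
    (fun r x => Subtype.ext (map_smulₛₗ g (r : R') x.1))
  exact congrArg Cardinal.toNat hr

end Groth.Agent.Lib.Graded.Ver
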