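import Groth.Agent.Lib.Graded.Ver.Basic
import Groth.Agent.Lib.Graded.Bound

/-!
# Veronese submodules of *injective modules are acyclic for local cohomology
-/

universe u

set_option maxHeartbeats 800000
set_option linter.unusedSectionVars false

open DirectSum

namespace Groth.Agent.Lib.Graded.Ver

open Groth.Agent.Lib.Graded.Basic Groth.Agent.Lib.Graded.StarInj Groth.Agent.Lib.Graded.Van
open Groth.Agent.Lib.Graded.Horseshoe

variable {R R' : Type u} [CommRing R] [CommRing R']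
variable {𝒜 : ℤ → AddSubgroup R} [GradedRing 𝒜] {𝒜' : ℤ → AddSubgroup R'} [GradedRing 𝒜']
variable {φ : R' →+* R} {q : ℕ}
variable {A B C : GrLC.GMod.{u} 𝒜} {A' B' C' : GrLC.GMod.{u} 𝒜'}
variable {gA : A'.carrier →ₛₗ[φ] A.carrier} {gB : B'.carrier →ₛₗ[φ] B.carrier} {gC : C'.carrier →ₛₗ[φ] C.carrier}

theorem ses_mapVer (h : Sys 𝒜 𝒜' φ q) (hA : IsVer q A.gr A'.gr gA) (hB : IsVer q B.gr B'.gr gB)
    (hC : IsVer q C.gr C'.gr gC) {i : A.carrier →ₗ[R] B.carrier} {π : B.carrier →ₗ[R] C.carrier}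
    (hs : SES A.gr B.gr C.gr i π) : SES A'.gr B'.gr C'.gr (mapVer h hA hB i) (mapVer h hB hC π) where
  grHom_i := mapVer_grHom h hA hB hs.grHom_i
  grHom_π := mapVer_grHom h hB hC hs.grHom_π
  injective := mapVer_injective h hA hB hs.grHom_i hs.injective
  surjective := mapVer_surjective h hB hC hs.grHom_π hs.surjective
  exact := by
    ext y
    constructor
    · intro hy
      have h1 := map_mapVer h hB hC hs.grHom_π y
      rw [LinearMap.mem_ker.1 hy, map_zero] at h1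
      obtain ⟨x, hx⟩ := hs.exact.le (LinearMap.mem_ker.2 h1.symm)
      refine ⟨retr h.pos hA x, hB.injective ?_⟩
      rw [map_mapVer h hA hB hs.grHom_i, ← retr_map h.pos hA hB hs.grHom_i, hx, retr_apply]
    · rintro ⟨x, rfl⟩
      refine LinearMap.mem_ker.2 (hC.injective ?_)
      rw [map_mapVer h hB hC hs.grHom_π, map_mapVer h hA hB hs.grHom_i, hs.π_i, map_zero]

variable [IsNoetherianRing R]

/-- The torsion part of a *injective module is *injective. -/
theorem isStarInj_gam (X : GrLC.GMod.{u} 𝒜) (hX : GrLC.IsStarInj 𝒜 X.gr) (J : HomogeneousIdeal 𝒜)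
    (P : Submodule R X.carrier) (hP : P.IsHomogeneous X.gr) (hPdef : P = GrLC.gam J.toIdeal X.carrier) :
    GrLC.IsStarInj 𝒜 (subMod 𝒜 X.gr P hP).gr := by
  letI := subDecomp X.gr P hP
  haveI := subGSMul 𝒜 X.gr P
  obtain ⟨Q, hQ, hle, hhull, -⟩ := exists_hull_in 𝒜 (ℳ := subGr X.gr P) hX (e := P.subtype)
    (fun _ _ hx => hx) P.injective_subtype
  letI := subDecomp X.gr Q hQ
  haveI := subGSMul 𝒜 X.gr Q
  have htors : GrLC.gam J.toIdeal Q = ⊤ := Torsion.gam_eq_top_of_isStarEss J hhull.toIsStarEss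
    (eq_top_iff.2 fun x _ => by
      obtain ⟨n, hn⟩ := (hPdef.le x.2 : (x : X.carrier) ∈ GrLC.gam J.toIdeal X.carrier)
      exact ⟨n, fun r hr => Subtype.ext (hn r hr)⟩)
  have hQP : Q = P := by
    refine le_antisymm (fun x hx => ?_) ((Submodule.range_subtype P).ge.trans hle)
    obtain ⟨n, hn⟩ := (htors.ge Submodule.mem_top : (⟨x, hx⟩ : Q) ∈ GrLC.gam J.toIdeal Q)
    rw [hPdef]
    exact ⟨n, fun r hr => congrArg Subtype.val (hn r hr)⟩
  subst hQP
  exact hhull.starInj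

/-- A homogeneous element acts surjectively on a *injective module modulo its torsion. -/
theorem exists_smul_sub_torsion (X : GrLC.GMod.{u} 𝒜) (hX : GrLC.IsStarInj 𝒜 X.gr) {k : ℤ} {r : R}
    (hr : r ∈ 𝒜 k) {j : ℤ} {y : X.carrier} (hy : y ∈ X.gr j) :
    ∃ x : X.carrier, ∃ n : ℕ, r ^ n • (r • x - y) = 0 := by
  obtain ⟨n, hn⟩ := monotone_stabilizes_iff_noetherian.2 (inferInstance : IsNoetherian R R)
    ⟨fun n => LinearMap.ker (LinearMap.mulLeft R (r ^ n)), fun a b hab z hz => by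
      obtain ⟨c, rfl⟩ := Nat.exists_eq_add_of_le' hab
      rw [LinearMap.mem_ker, LinearMap.mulLeft_apply] at hz ⊢
      rw [pow_add, mul_assoc, hz, mul_zero]⟩
  have hpow : ∀ e : ℕ, r ^ e ∈ 𝒜 ((e : ℤ) * k) := fun e => by
    simpa [nsmul_eq_mul] using SetLike.pow_mem_graded (A := 𝒜) e hr
  letI := shiftDecomp (𝒜 : ℤ → AddSubgroup R) (-(((n + 1 : ℕ) : ℤ) * k))
  haveI := shiftGSMul 𝒜 (𝒜 : ℤ → AddSubgroup R) (-(((n + 1 : ℕ) : ℤ) * k))
  letI := shiftDecomp X.gr (j - k)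
  haveI := shiftGSMul 𝒜 X.gr (j - k)
  have hX' : GrLC.IsStarInj 𝒜 (shiftGr X.gr (j - k)) := isStarInj_shiftMod hX (j - k)
  obtain ⟨f, -, hf⟩ := extend_of_ker_le hX'
    (𝒩 := shiftGr 𝒜 (-(((n + 1 : ℕ) : ℤ) * k))) (𝒬 := 𝒜) (f := r ^ (n + 1) • (LinearMap.id : R →ₗ[R] R))
    (fun d a ha => smul_mem' 𝒜 𝒜 (hpow (n + 1)) ((mem_shiftGr _).1 ha) (by ring))
    (g := LinearMap.toSpanSingleton R X.carrier (r ^ n • y))
    (fun d a ha => by
      change a • r ^ n • y ∈ X.gr (d + (j - k))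
      exact smul_mem' 𝒜 X.gr ((mem_shiftGr _).1 ha) (smul_mem_add 𝒜 X.gr (hpow n) hy)
        (by push_cast; ring))
    (fun a ha => by
      have h1 : a ∈ LinearMap.ker (LinearMap.mulLeft R (r ^ (n + 1))) := ha
      rw [show LinearMap.ker (LinearMap.mulLeft R (r ^ (n + 1))) = LinearMap.ker (LinearMap.mulLeft R (r ^ n))
        from (hn (n + 1) n.le_succ).symm, LinearMap.mem_ker, LinearMap.mulLeft_apply] at h1
      rw [LinearMap.mem_ker, LinearMap.toSpanSingleton_apply, ← mul_smul, mul_comm, h1, zero_smul])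
  refine ⟨f 1, n, ?_⟩
  have h1 := LinearMap.congr_fun hf 1
  simp only [LinearMap.comp_apply, LinearMap.smul_apply, LinearMap.id_apply, smul_eq_mul, mul_one,
    LinearMap.toSpanSingleton_apply, one_smul] at h1
  rw [smul_sub, ← mul_smul, ← pow_succ, ← h1, sub_eq_zero]
  exact ((map_smul f (r ^ (n + 1)) 1).symm.trans (by rw [smul_eq_mul, mul_one]))

variable [IsNoetherianRing R'] {m : HomogeneousIdeal 𝒜} {m' : HomogeneousIdeal 𝒜'}

/-- Veronese submodules of *injective modules have no higher local cohomology. -/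
theorem acyclic (h : Sys 𝒜 𝒜' φ q)
    (hmsp : m.toIdeal = Ideal.span (⋃ n ∈ Set.Ioi (0 : ℤ), (𝒜 n : Set R)))
    (hm'sp : m'.toIdeal = Ideal.span (⋃ n ∈ Set.Ioi (0 : ℤ), (𝒜' n : Set R')))
    (X : GrLC.GMod.{u} 𝒜) (hX : GrLC.IsStarInj 𝒜 X.gr) (Y : GrLC.GMod.{u} 𝒜')
    (g : Y.carrier →ₛₗ[φ] X.carrier) (hg : IsVer q X.gr Y.gr g) (i : ℕ) (hi : 1 ≤ i) (d : ℤ) :
    V m' Y i d := by
  classical
  obtain ⟨T, hTsub, hTspan⟩ : ∃ T : Finset R, (↑T : Set R) ⊆ (⋃ n ∈ Set.Ioi (0 : ℤ), (𝒜 n : Set R)) ∧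
      Submodule.span R (↑T : Set R) = Ideal.span (⋃ n ∈ Set.Ioi (0 : ℤ), (𝒜 n : Set R)) := by
    obtain ⟨T, hT1, hT2⟩ := Submodule.fg_span_iff_fg_span_finset_subset _ |>.1
      (IsNoetherian.noetherian (Submodule.span R (⋃ n ∈ Set.Ioi (0 : ℤ), (𝒜 n : Set R))))
    exact ⟨T, hT1, hT2.symm⟩
  suffices key : ∀ s : Finset R, s ⊆ T → ∀ X : GrLC.GMod.{u} 𝒜, GrLC.IsStarInj 𝒜 X.gr →
      (∀ r ∈ T, r ∉ s → Bound.IsNil r X.carrier) → ∀ (Y : GrLC.GMod.{u} 𝒜')
      (g : Y.carrier →ₛₗ[φ] X.carrier), IsVer q X.gr Y.gr g → ∀ i, 1 ≤ i → ∀ d, V m' Y i d from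
    key T subset_rfl X hX (fun r hr hrT => absurd hr hrT) Y g hg i hi d
  intro s
  induction s using Finset.induction with
  | empty =>
    intro _ X _ hnil Y g hg i hi d
    refine V_torsion (eq_top_iff.2 fun y _ => (mem_gam_iff hmsp hm'sp h hg).1 ?_) hi
    have hle : m.toIdeal ≤ (Submodule.span R {g y}).annihilator.radical := by
      rw [hmsp, ← hTspan]
      refine Ideal.span_le.2 fun r hr => ?_
      obtain ⟨n, hn⟩ := hnil r hr (Finset.notMem_empty r) (g y)
      exact ⟨n, (Submodule.mem_annihilator_span_singleton _ _).2 hn⟩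
    obtain ⟨N, hN⟩ := Ideal.exists_pow_le_of_le_radical_of_fg hle (IsNoetherian.noetherian _)
    exact ⟨N, fun r hr => (Submodule.mem_annihilator_span_singleton _ _).1 (hN hr)⟩
  | insert r s hrs ih =>
    intro hsT X hX hnil Y g hg i hi d
    have hrT : r ∈ T := hsT (Finset.mem_insert_self r s)
    obtain ⟨k, hk, hr⟩ := Set.mem_iUnion₂.1 (hTsub hrT)
    let J : HomogeneousIdeal 𝒜 :=
      ⟨Ideal.span {r}, Ideal.homogeneous_span 𝒜 _ (by simpa using ⟨k, hr⟩)⟩
    obtain ⟨P, hPdef⟩ : ∃ P : Submodule R X.carrier, P = GrLC.gam J.toIdeal X.carrier := ⟨_, rfl⟩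
    have hP : P.IsHomogeneous X.gr := hPdef ▸ Res.isHomogeneous_gam 𝒜 X.gr J
    obtain ⟨YP, gP, hgP⟩ := exists_ver h (subMod 𝒜 X.gr P hP)
    obtain ⟨YZ, gZ, hgZ⟩ := exists_ver h (qMod 𝒜 X.gr P hP)
    refine V_mid (ses_mapVer h hgP hg hgZ (ses_quot X P hP))
      (ih ((Finset.subset_insert r s).trans hsT) _ (isStarInj_gam X hX J P hP hPdef) (fun t ht hts => ?_)
        YP gP hgP i hi d) ?_
    · by_cases htr : t = r
      · exact Bound.isNil_gam (J := J.toIdeal) (htr ▸ Ideal.subset_span rfl) hPdef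
      · exact Bound.isNil_sub P (hnil t ht (by simp [htr, hts]))
    · have hinj : ∀ z : X.carrier ⧸ P, ∀ e : ℕ, r ^ e • z = 0 → z = 0 := by
        intro z e hz
        subst hPdef
        exact (Submodule.eq_bot_iff _).1 (Ass.gam_quot_eq_bot J.toIdeal X.carrier) z
          (Bound.gam_span_singleton hz)
      have hsurj : ∀ z : X.carrier ⧸ P, ∀ e : ℕ, ∃ w, r ^ e • w = z := by
        intro z e
        induction e generalizing z with
        | zero => exact ⟨z, by rw [pow_zero, one_smul]⟩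
        | succ e ihe =>
          obtain ⟨w, hw⟩ : ∃ w, r • w = z := by
            obtain ⟨x, rfl⟩ := P.mkQ_surjective z
            induction x using induction_hom X.gr with
            | zero => exact ⟨0, by simp⟩
            | add a b ha hb =>
              obtain ⟨u, hu⟩ := ha
              obtain ⟨v, hv⟩ := hb
              exact ⟨u + v, by rw [smul_add, hu, hv, map_add]⟩
            | hom j y hy =>
              obtain ⟨x, n, hx⟩ := exists_smul_sub_torsion X hX hr hy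
              refine ⟨P.mkQ x, ?_⟩
              rw [← map_smul, ← sub_eq_zero, ← map_sub]
              refine hinj _ n ?_
              rw [← map_smul, hx, map_zero]
          obtain ⟨v, hv⟩ := ihe w
          exact ⟨v, by rw [pow_succ', mul_smul, hv, hw]⟩
      obtain ⟨t, ht, htm, htr⟩ := h.pow_mem hm'sp (Set.mem_Ioi.1 hk) hr
      refine Bound.V_of_bijective ht htm ⟨fun a b hab => hgZ.injective (sub_eq_zero.1 (hinj _ q ?_)),
        fun y => ?_⟩ i d
      · have h1 : φ t • gZ a = φ t • gZ b :=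
          ((map_smulₛₗ gZ t a).symm.trans (congrArg gZ hab)).trans (map_smulₛₗ gZ t b)
        rw [htr] at h1
        refine (smul_sub (r ^ q) (gZ a) (gZ b) : _).trans ?_
        exact sub_eq_zero.2 h1
      · obtain ⟨w, hw⟩ := hsurj (gZ y) q
        refine ⟨retr h.pos hgZ w, ?_⟩
        change t • retr h.pos hgZ w = y
        rw [← retr_smul h hgZ, htr]
        exact (congrArg (retr h.pos hgZ) hw).trans (retr_apply h.pos hgZ y)

end Groth.Agent.Lib.Graded.Ver
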