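import Groth.Agent.Lib.Graded.StarInj
import Groth.Agent.Lib.Graded.Res
import Mathlib.RingTheory.Noetherian.Nilpotent

/-!
# Veronese subrings and the Veronese submodules of a graded module
-/

universe u

set_option maxHeartbeats 800000
set_option linter.unusedSectionVars false

open DirectSum

namespace Groth.Agent.Lib.Graded.Ver

open Groth.Agent.Lib.Graded.Basic

variable {R R' : Type u} [CommRing R] [CommRing R']
variable {𝒜 : ℤ → AddSubgroup R} [GradedRing 𝒜] {𝒜' : ℤ → AddSubgroup R'} [GradedRing 𝒜']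
variable {φ : R' →+* R} {q : ℕ}

/-- `φ` exhibits `R'` as the `q`-th Veronese subring of `R`. -/
structure Sys (𝒜 : ℤ → AddSubgroup R) (𝒜' : ℤ → AddSubgroup R') (φ : R' →+* R) (q : ℕ) : Prop where
  pos : 0 < q
  injective : Function.Injective φ
  deg : ∀ j : ℤ, (𝒜' j).map (φ : R' →+ R) = 𝒜 (j * q)

theorem Sys.map_mem (h : Sys 𝒜 𝒜' φ q) {j : ℤ} {r : R'} (hr : r ∈ 𝒜' j) : φ r ∈ 𝒜 (j * q) :=
  h.deg j ▸ AddSubgroup.mem_map_of_mem _ hr

theorem Sys.exists_preimage (h : Sys 𝒜 𝒜' φ q) {j : ℤ} {r : R} (hr : r ∈ 𝒜 (j * q)) :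
    ∃ s ∈ 𝒜' j, φ s = r := by
  rw [← h.deg j] at hr
  exact hr

theorem Sys.inj_mul (h : Sys 𝒜 𝒜' φ q) {i j : ℤ} (hij : i * q = j * q) : i = j :=
  mul_right_cancel₀ (by exact_mod_cast h.pos.ne') hij

variable {M : Type u} [AddCommGroup M] [Module R M] {M' : Type u} [AddCommGroup M'] [Module R' M']
variable {ℳ : ℤ → AddSubgroup M} [DirectSum.Decomposition ℳ] [SetLike.GradedSMul 𝒜 ℳ]
variable {ℳ' : ℤ → AddSubgroup M'} [DirectSum.Decomposition ℳ'] [SetLike.GradedSMul 𝒜' ℳ']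

/-- `g` exhibits `M'` as the `q`-th Veronese submodule of `M`. -/
structure IsVer (q : ℕ) (ℳ : ℤ → AddSubgroup M) (ℳ' : ℤ → AddSubgroup M') (g : M' →ₛₗ[φ] M) : Prop where
  injective : Function.Injective g
  deg : ∀ j : ℤ, (ℳ' j).map (g : M' →+ M) = ℳ (j * q)

variable {g : M' →ₛₗ[φ] M}

theorem IsVer.map_mem (hg : IsVer q ℳ ℳ' g) {j : ℤ} {x : M'} (hx : x ∈ ℳ' j) : g x ∈ ℳ (j * q) :=
  hg.deg j ▸ AddSubgroup.mem_map_of_mem _ hx

theorem IsVer.exists_preimage (hg : IsVer q ℳ ℳ' g) {j : ℤ} {x : M} (hx : x ∈ ℳ (j * q)) :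
    ∃ y ∈ ℳ' j, g y = x := by
  rw [← hg.deg j] at hx
  exact hx

theorem IsVer.map_proj (hq : 0 < q) (hg : IsVer q ℳ ℳ' g) (j : ℤ) (x : M') :
    g (proj ℳ' j x) = proj ℳ (j * q) (g x) := by
  induction x using induction_hom ℳ' with
  | zero => simp
  | add a b ha hb => simp only [map_add, ha, hb]
  | hom i x hx =>
    rcases eq_or_ne i j with rfl | hne
    · rw [proj_of_mem ℳ' hx, proj_of_mem ℳ (hg.map_mem hx)]
    · rw [proj_of_mem_ne ℳ' hx hne, map_zero, proj_of_mem_ne ℳ (hg.map_mem hx)]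
      exact fun h => hne (mul_right_cancel₀ (by exact_mod_cast hq.ne') h)

theorem IsVer.proj_eq_zero (hg : IsVer q ℳ ℳ' g) {d : ℤ} (hd : ¬ (q : ℤ) ∣ d) (x : M') :
    proj ℳ d (g x) = 0 := by
  induction x using induction_hom ℳ' with
  | zero => simp
  | add a b ha hb => simp only [map_add, ha, hb, add_zero]
  | hom i x hx =>
    exact proj_of_mem_ne ℳ (hg.map_mem hx) fun h => hd ⟨i, by rw [← h, mul_comm]⟩

theorem exists_retraction (hq : 0 < q) (hg : IsVer q ℳ ℳ' g) :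
    ∃ ρ : M →+ M', (∀ x, ρ (g x) = x) ∧
      ∀ (d : ℤ) (x : M), x ∈ ℳ d → g (ρ x) = if (q : ℤ) ∣ d then x else 0 := by
  classical
  have hex : ∀ (d : ℤ) (x : ℳ d), ∃ y : M', g y = if (q : ℤ) ∣ d then (x : M) else 0 := fun d x => by
    by_cases hd : (q : ℤ) ∣ d
    · obtain ⟨j, rfl⟩ := hd
      obtain ⟨y, -, hy⟩ := hg.exists_preimage (j := j) (x := x.1) (by rw [mul_comm]; exact x.2)
      exact ⟨y, by rw [if_pos (dvd_mul_right _ _), hy]⟩
    · exact ⟨0, by rw [if_neg hd, map_zero]⟩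
  choose f hf using hex
  let F : ∀ d, ℳ d →+ M' := fun d => AddMonoidHom.mk' (f d) fun x y => hg.injective <| by
    rw [map_add, hf, hf, hf]
    split_ifs <;> simp
  let ρ : M →+ M' := (DirectSum.toAddMonoid F).comp (decomposeAddEquiv ℳ).toAddMonoidHom
  have hρ : ∀ (d : ℤ) (x : M), x ∈ ℳ d → g (ρ x) = if (q : ℤ) ∣ d then x else 0 := fun d x hx => by
    change g (DirectSum.toAddMonoid F (decompose ℳ x)) = _
    rw [decompose_of_mem ℳ hx, DirectSum.toAddMonoid_of]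
    exact hf d ⟨x, hx⟩
  refine ⟨ρ, fun x => hg.injective ?_, hρ⟩
  induction x using induction_hom ℳ' with
  | zero => simp
  | add a b ha hb => simp only [map_add, ha, hb]
  | hom i x hx => rw [hρ _ _ (hg.map_mem hx), if_pos ⟨i, mul_comm _ _⟩]

/-- The projection onto the Veronese submodule. -/
noncomputable def retr (hq : 0 < q) (hg : IsVer q ℳ ℳ' g) : M →+ M' := (exists_retraction hq hg).choose

theorem retr_apply (hq : 0 < q) (hg : IsVer q ℳ ℳ' g) (x : M') : retr hq hg (g x) = x :=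
  (exists_retraction hq hg).choose_spec.1 x

theorem map_retr_of_mem (hq : 0 < q) (hg : IsVer q ℳ ℳ' g) {d : ℤ} {x : M} (hx : x ∈ ℳ d) :
    g (retr hq hg x) = if (q : ℤ) ∣ d then x else 0 :=
  (exists_retraction hq hg).choose_spec.2 d x hx

theorem mem_range_iff (hq : 0 < q) (hg : IsVer q ℳ ℳ' g) {x : M} :
    (∃ y, g y = x) ↔ ∀ d : ℤ, ¬ (q : ℤ) ∣ d → proj ℳ d x = 0 := by
  refine ⟨fun ⟨y, hy⟩ d hd => hy ▸ hg.proj_eq_zero hd y, fun h => ⟨retr hq hg x, ?_⟩⟩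
  conv_rhs => rw [← sum_proj ℳ x]
  conv_lhs => rw [← sum_proj ℳ x]
  simp only [map_sum]
  refine Finset.sum_congr rfl fun d _ => ?_
  rw [map_retr_of_mem hq hg (proj_mem ℳ d x)]
  split_ifs with hd
  · rfl
  · exact (h d hd).symm

theorem retr_smul (h : Sys 𝒜 𝒜' φ q) (hg : IsVer q ℳ ℳ' g) (s : R') (x : M) :
    retr h.pos hg (φ s • x) = s • retr h.pos hg x := by
  refine hg.injective ?_
  rw [map_smulₛₗ g]
  induction s using induction_hom 𝒜' with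
  | zero => simp
  | add a b ha hb => simp only [map_add, add_smul, ha, hb]
  | hom i s hs =>
    induction x using induction_hom ℳ with
    | zero => simp
    | add a b ha hb => simp only [map_add, smul_add, ha, hb]
    | hom d x hx =>
      rw [map_retr_of_mem h.pos hg (smul_mem_add 𝒜 ℳ (h.map_mem hs) hx), map_retr_of_mem h.pos hg hx]
      have hiff : (q : ℤ) ∣ i * q + d ↔ (q : ℤ) ∣ d := Int.dvd_add_right (dvd_mul_left _ _)
      simp only [hiff]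
      split_ifs <;> simp

section Torsion

variable {m : HomogeneousIdeal 𝒜} {m' : HomogeneousIdeal 𝒜'}
  (hmsp : m.toIdeal = Ideal.span (⋃ n ∈ Set.Ioi (0 : ℤ), (𝒜 n : Set R)))
  (hm'sp : m'.toIdeal = Ideal.span (⋃ n ∈ Set.Ioi (0 : ℤ), (𝒜' n : Set R')))

theorem Sys.map_le (h : Sys 𝒜 𝒜' φ q) (hmsp : m.toIdeal = Ideal.span (⋃ n ∈ Set.Ioi (0 : ℤ), (𝒜 n : Set R)))
    (hm'sp : m'.toIdeal = Ideal.span (⋃ n ∈ Set.Ioi (0 : ℤ), (𝒜' n : Set R'))) :
    m'.toIdeal.map φ ≤ m.toIdeal := by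
  rw [hm'sp, Ideal.map_span, Ideal.span_le]
  rintro _ ⟨r, hr, rfl⟩
  obtain ⟨j, hj, hrj⟩ := Set.mem_iUnion₂.1 hr
  rw [hmsp]
  exact Ideal.subset_span (Set.mem_iUnion₂.2
    ⟨j * q, mul_pos (Set.mem_Ioi.1 hj) (by exact_mod_cast h.pos), h.map_mem hrj⟩)

theorem Sys.pow_mem (h : Sys 𝒜 𝒜' φ q) (hm'sp : m'.toIdeal = Ideal.span (⋃ n ∈ Set.Ioi (0 : ℤ), (𝒜' n : Set R')))
    {k : ℤ} (hk : 0 < k) {r : R} (hr : r ∈ 𝒜 k) : ∃ s ∈ 𝒜' k, s ∈ m'.toIdeal ∧ φ s = r ^ q := by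
  have hrq : r ^ q ∈ 𝒜 (k * q) := by
    have := SetLike.pow_mem_graded (A := 𝒜) q hr
    rwa [nsmul_eq_mul, mul_comm] at this
  obtain ⟨s, hs, hsr⟩ := h.exists_preimage hrq
  exact ⟨s, hs, hm'sp ▸ Ideal.subset_span (Set.mem_iUnion₂.2 ⟨k, hk, hs⟩), hsr⟩

include hmsp hm'sp

theorem mem_gam_iff [IsNoetherianRing R] (h : Sys 𝒜 𝒜' φ q) (hg : IsVer q ℳ ℳ' g) {x : M'} :
    g x ∈ GrLC.gam m.toIdeal M ↔ x ∈ GrLC.gam m'.toIdeal M' := by
  constructor
  · rintro ⟨n, hn⟩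
    refine ⟨n, fun r hr => hg.injective ?_⟩
    rw [map_smulₛₗ, map_zero]
    refine hn _ (Ideal.pow_right_mono (h.map_le hmsp hm'sp) n ?_)
    rw [← Ideal.map_pow]
    exact Ideal.mem_map_of_mem _ hr
  · rintro ⟨n, hn⟩
    have hle : m.toIdeal ≤ (Submodule.span R {g x}).annihilator.radical := by
      rw [hmsp, Ideal.span_le]
      intro r hr
      obtain ⟨k, hk, hrk⟩ := Set.mem_iUnion₂.1 hr
      obtain ⟨s, -, hsm, hs⟩ := h.pow_mem hm'sp (Set.mem_Ioi.1 hk) hrk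
      refine ⟨q * n, ?_⟩
      rw [Submodule.mem_annihilator_span_singleton, pow_mul, ← hs, ← map_pow, ← map_smulₛₗ,
        hn _ (Ideal.pow_mem_pow hsm n), map_zero]
    obtain ⟨N, hN⟩ := Ideal.exists_pow_le_of_le_radical_of_fg hle (IsNoetherian.noetherian _)
    exact ⟨N, fun r hr => (Submodule.mem_annihilator_span_singleton _ _).1 (hN hr)⟩

theorem retr_mem_gam [IsNoetherianRing R] (h : Sys 𝒜 𝒜' φ q) (hg : IsVer q ℳ ℳ' g) {x : M}
    (hx : x ∈ GrLC.gam m.toIdeal M) : retr h.pos hg x ∈ GrLC.gam m'.toIdeal M' := by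
  rw [← sum_proj ℳ x, map_sum]
  refine sum_mem fun d _ => (mem_gam_iff hmsp hm'sp h hg).1 ?_
  rw [map_retr_of_mem h.pos hg (proj_mem ℳ d x)]
  split_ifs
  · exact Res.isHomogeneous_gam 𝒜 ℳ m d hx
  · exact zero_mem _

end Torsion

section Maps

variable {N : Type u} [AddCommGroup N] [Module R N] {N' : Type u} [AddCommGroup N'] [Module R' N']
variable {𝒩 : ℤ → AddSubgroup N} [DirectSum.Decomposition 𝒩] [SetLike.GradedSMul 𝒜 𝒩]
variable {𝒩' : ℤ → AddSubgroup N'} [DirectSum.Decomposition 𝒩'] [SetLike.GradedSMul 𝒜' 𝒩']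
variable {g₂ : N' →ₛₗ[φ] N} {f : M →ₗ[R] N}

theorem map_range (hq : 0 < q) (hg : IsVer q ℳ ℳ' g) (hg₂ : IsVer q 𝒩 𝒩' g₂) (hf : GrLC.IsGrHom ℳ 𝒩 f)
    (x : M') : ∃ y, g₂ y = f (g x) :=
  (mem_range_iff hq hg₂).2 fun d hd => by rw [← Basic.map_proj hf, hg.proj_eq_zero hd, map_zero]

theorem retr_map (hq : 0 < q) (hg : IsVer q ℳ ℳ' g) (hg₂ : IsVer q 𝒩 𝒩' g₂) (hf : GrLC.IsGrHom ℳ 𝒩 f)
    (x : M) : g₂ (retr hq hg₂ (f x)) = f (g (retr hq hg x)) := by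
  induction x using induction_hom ℳ with
  | zero => simp
  | add a b ha hb => simp only [map_add, ha, hb]
  | hom d x hx =>
    rw [map_retr_of_mem hq hg₂ (hf d x hx), map_retr_of_mem hq hg hx]
    split_ifs <;> simp

/-- The map induced on Veronese submodules. -/
noncomputable def mapVer (h : Sys 𝒜 𝒜' φ q) (hg : IsVer q ℳ ℳ' g) (hg₂ : IsVer q 𝒩 𝒩' g₂)
    (f : M →ₗ[R] N) : M' →ₗ[R'] N' where
  toFun x := retr h.pos hg₂ (f (g x))
  map_add' x y := by simp only [map_add]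
  map_smul' s x := by rw [map_smulₛₗ, map_smul, retr_smul h hg₂, RingHom.id_apply]

theorem map_mapVer (h : Sys 𝒜 𝒜' φ q) (hg : IsVer q ℳ ℳ' g) (hg₂ : IsVer q 𝒩 𝒩' g₂)
    (hf : GrLC.IsGrHom ℳ 𝒩 f) (x : M') : g₂ (mapVer h hg hg₂ f x) = f (g x) := by
  obtain ⟨y, hy⟩ := map_range h.pos hg hg₂ hf x
  change g₂ (retr h.pos hg₂ (f (g x))) = _
  rw [← hy, retr_apply]

theorem mapVer_grHom (h : Sys 𝒜 𝒜' φ q) (hg : IsVer q ℳ ℳ' g) (hg₂ : IsVer q 𝒩 𝒩' g₂)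
    (hf : GrLC.IsGrHom ℳ 𝒩 f) : GrLC.IsGrHom ℳ' 𝒩' (mapVer h hg hg₂ f) := fun j x hx => by
  obtain ⟨y, hy, hyx⟩ := hg₂.exists_preimage (hf _ _ (hg.map_mem hx))
  have : mapVer h hg hg₂ f x = y := hg₂.injective ((map_mapVer h hg hg₂ hf x).trans hyx.symm)
  rw [this]
  exact hy

theorem mapVer_injective (h : Sys 𝒜 𝒜' φ q) (hg : IsVer q ℳ ℳ' g) (hg₂ : IsVer q 𝒩 𝒩' g₂)
    (hf : GrLC.IsGrHom ℳ 𝒩 f) (hinj : Function.Injective f) : Function.Injective (mapVer h hg hg₂ f) :=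
  fun x y hxy => hg.injective <| hinj <| by
    rw [← map_mapVer h hg hg₂ hf, ← map_mapVer h hg hg₂ hf, hxy]

theorem mapVer_surjective (h : Sys 𝒜 𝒜' φ q) (hg : IsVer q ℳ ℳ' g) (hg₂ : IsVer q 𝒩 𝒩' g₂)
    (hf : GrLC.IsGrHom ℳ 𝒩 f) (hsurj : Function.Surjective f) : Function.Surjective (mapVer h hg hg₂ f) := by
  intro y
  obtain ⟨x, hx⟩ := hsurj (g₂ y)
  refine ⟨retr h.pos hg x, hg₂.injective ?_⟩
  rw [map_mapVer h hg hg₂ hf, ← retr_map h.pos hg hg₂ hf, hx, retr_apply]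

end Maps

section Construction

variable (φ q) in
/-- The elements with components in degrees divisible by `q`. -/
noncomputable def sub (ℳ : ℤ → AddSubgroup M) [DirectSum.Decomposition ℳ] : AddSubgroup M :=
  ⨅ (d : ℤ) (_ : ¬ (q : ℤ) ∣ d), (proj ℳ d).ker

theorem mem_sub {x : M} : x ∈ sub q ℳ ↔ ∀ d : ℤ, ¬ (q : ℤ) ∣ d → proj ℳ d x = 0 := by
  simp [sub, AddSubgroup.mem_iInf, AddMonoidHom.mem_ker]

theorem exists_ver (h : Sys 𝒜 𝒜' φ q) (X : GrLC.GMod.{u} 𝒜) :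
    ∃ (Y : GrLC.GMod.{u} 𝒜') (g : Y.carrier →ₛₗ[φ] X.carrier), IsVer q X.gr Y.gr g := by
  classical
  letI : Module R' X.carrier := Module.compHom X.carrier φ
  let S : Submodule R' X.carrier :=
    { sub q X.gr with
      smul_mem' := fun s x hx => by
        refine mem_sub.2 fun d hd => ?_
        change proj X.gr d (φ s • x) = 0
        induction s using induction_hom 𝒜' with
        | zero => rw [map_zero, zero_smul, map_zero]
        | add a b ha hb => rw [map_add, add_smul, map_add, ha, hb, add_zero]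
        | hom i s hs =>
          rw [proj_smul_of_mem 𝒜 X.gr (h.map_mem hs),
            mem_sub.1 hx _ fun hdvd => hd (by simpa using Int.dvd_add hdvd (dvd_mul_left (q : ℤ) i)),
            smul_zero] }
  let 𝒮 : ℤ → AddSubgroup S := fun j => (X.gr (j * q)).comap S.subtype.toAddMonoidHom
  have hp : ∀ (j : ℤ) (x : X.carrier), proj X.gr (j * q) x ∈ S := fun j x => mem_sub.2 fun d hd =>
    proj_of_mem_ne X.gr (proj_mem X.gr _ x) fun hjd => hd ⟨j, by rw [← hjd, mul_comm]⟩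
  let π : ℤ → S →+ S := fun j =>
    AddMonoidHom.mk' (fun x => ⟨proj X.gr (j * q) x.1, hp j x.1⟩) fun x y => Subtype.ext (map_add _ _ _)
  have hq : (q : ℤ) ≠ 0 := by exact_mod_cast h.pos.ne'
  letI : DirectSum.Decomposition 𝒮 := decompositionOfProj 𝒮 π
    (fun j x hx => Subtype.ext (proj_of_mem X.gr hx))
    (fun j k hne x hx => Subtype.ext (proj_of_mem_ne X.gr hx fun he => hne (mul_right_cancel₀ hq he)))
    (fun x => by
      have hx : x = ∑ d ∈ (supp X.gr x.1).attach, π ((d : ℤ) / q) x := by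
        refine Subtype.ext ?_
        rw [AddSubmonoidClass.coe_finsetSum]
        conv_lhs => rw [← sum_proj X.gr x.1, ← Finset.sum_attach]
        refine Finset.sum_congr rfl fun d _ => ?_
        have hd : (q : ℤ) ∣ d := by
          by_contra hd
          exact (mem_supp X.gr).1 d.2 (mem_sub.1 x.2 _ hd)
        change proj X.gr d x.1 = proj X.gr ((d : ℤ) / q * q) x.1
        rw [Int.ediv_mul_cancel hd]
      rw [hx]
      exact sum_mem fun d _ => StarInj.mem_coe_range _ (show π ((d : ℤ) / q) x ∈ 𝒮 ((d : ℤ) / q) from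
        proj_mem X.gr _ x.1))
  haveI : SetLike.GradedSMul 𝒜' 𝒮 := ⟨fun {i j} s x hs hx => by
    change φ s • x.1 ∈ X.gr ((i + j) * q)
    exact smul_mem' 𝒜 X.gr (h.map_mem hs) hx (add_mul i j (q : ℤ)).symm⟩
  refine ⟨GrLC.GMod.of 𝒜' S 𝒮,
    { toFun := fun x => x.1, map_add' := fun _ _ => rfl, map_smul' := fun _ _ => rfl },
    fun x y hxy => Subtype.ext hxy, fun j => ?_⟩
  ext y
  refine ⟨fun ⟨x, hx, hxy⟩ => hxy ▸ hx, fun hy => ⟨⟨y, ?_⟩, hy, rfl⟩⟩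
  have := hp j y
  rwa [proj_of_mem X.gr hy] at this

end Construction

end Groth.Agent.Lib.Graded.Ver
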