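import Groth.Agent.Lib.Graded.Ver.Acyclic

/-!
# Local cohomology of Veronese submodules
-/

universe u

set_option maxHeartbeats 800000
set_option linter.unusedSectionVars false

open DirectSum

namespace Groth.Agent.Lib.Graded.Ver

open Groth.Agent.Lib.Graded.Basic Groth.Agent.Lib.Graded.StarInj Groth.Agent.Lib.Graded.Van
open Groth.Agent.Lib.Graded.Horseshoe

variable {R R' : Type u} [CommRing R] [CommRing R']
variable {𝒜 : ℤ → AddSubgroup R} [GradedRing 𝒜] {𝒜' : ℤ → AddSubgroup R'} [GradedRing 𝒜']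
variable {φ : R' →+* R} {q : ℕ}

/-- The inclusion of the Veronese subring, as a semilinear map. -/
def algMap (φ : R' →+* R) : R' →ₛₗ[φ] R where
  toFun := φ
  map_add' := map_add φ
  map_smul' a b := map_mul φ a b

theorem isVer_algMap (h : Sys 𝒜 𝒜' φ q) : IsVer q 𝒜 𝒜' (algMap φ) := ⟨h.injective, h.deg⟩

/-- The Veronese subring of a Noetherian ring is Noetherian. -/
theorem Sys.isNoetherianRing [IsNoetherianRing R] (h : Sys 𝒜 𝒜' φ q) : IsNoetherianRing R' := by
  have hleft : ∀ I : Ideal R', (I.map φ).comap φ ≤ I := by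
    intro I x hx
    have key : ∀ y ∈ I.map φ, ∀ c : R, retr h.pos (isVer_algMap h) (c * y) ∈ I := by
      intro y hy
      induction hy using Submodule.span_induction with
      | mem w hw =>
        obtain ⟨v, hv, rfl⟩ := hw
        intro c
        rw [mul_comm, ← smul_eq_mul, retr_smul h (isVer_algMap h), smul_eq_mul, mul_comm]
        exact I.mul_mem_left _ hv
      | zero => intro c; rw [mul_zero, map_zero]; exact zero_mem _
      | add a b _ _ ha hb => intro c; rw [mul_add, map_add]; exact add_mem (ha c) (hb c)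
      | smul t a _ ha => intro c; rw [smul_eq_mul, ← mul_assoc]; exact ha (c * t)
    have h1 := key (φ x) hx 1
    rw [one_mul] at h1
    exact (retr_apply h.pos (isVer_algMap h) x) ▸ h1
  rw [isNoetherianRing_iff, isNoetherian_iff]
  refine (StrictMono.wellFoundedGT (f := fun I : Ideal R' => I.map φ)
    (Monotone.strictMono_of_injective (fun _ _ hle => Ideal.map_mono hle) fun I J hIJ =>
      le_antisymm (le_trans Ideal.le_comap_map (le_trans (Ideal.comap_mono hIJ.le) (hleft J)))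
        (le_trans Ideal.le_comap_map (le_trans (Ideal.comap_mono hIJ.ge) (hleft I))))).wf

theorem sys_id (𝒜 : ℤ → AddSubgroup R) : Sys 𝒜 𝒜 (RingHom.id R) 1 where
  pos := one_pos
  injective := fun _ _ h => h
  deg j := by simp

theorem isVer_id {M : Type u} [AddCommGroup M] [Module R M] (ℳ : ℤ → AddSubgroup M) :
    IsVer 1 ℳ ℳ (LinearMap.id : M →ₗ[R] M) where
  injective := fun _ _ h => h
  deg j := by ext; simp

variable [IsNoetherianRing R] {m : HomogeneousIdeal 𝒜} {m' : HomogeneousIdeal 𝒜'}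

theorem subsingleton_of_forall_V [IsNoetherianRing R'] {Y : GrLC.GMod.{u} 𝒜'} {i : ℕ}
    (hV : ∀ d, V m' Y i d) (F : GrLC.StarInjRes 𝒜' Y.gr) : Subsingleton (F.H m' i) := by
  letI := Res.hgrDecomp F m' i
  refine subsingleton_of_forall_eq 0 fun x => eq_zero_of_proj (F.Hgr m' i) fun d => ?_
  exact (AddSubgroup.eq_bot_iff_forall _).1 (hV d F) _ (proj_mem _ d x)

theorem h0Map_natural {ι : Type} [AddCommGroup ι] [DecidableEq ι] {S : Type u} [CommRing S]
    {ℬ : ι → AddSubgroup S} [GradedRing ℬ] {a : HomogeneousIdeal ℬ} {X Z : GrLC.GMod.{u} ℬ}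
    (E : GrLC.StarInjRes ℬ X.gr) (F : GrLC.StarInjRes ℬ Z.gr) {f : X.carrier →ₗ[S] Z.carrier}
    (hf : GrLC.IsGrHom X.gr Z.gr f) (x : GrLC.gam a.toIdeal X.carrier) :
    (Chain.lift E F f).hMap a 0 (Chain.h0Equiv a E x) =
      Chain.h0Equiv a F ⟨f x.1, Chain.map_mem_gam _ f x.2⟩ := by
  change (Chain.lift E F f).hMap a 0 (E.toH a 0 _) = F.toH a 0 _
  rw [Chain.Map.hMap_toH]
  exact congrArg (F.toH a 0) (Subtype.ext (LinearMap.congr_fun (Chain.lift_ε E F f hf) x.1))

section Step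

variable {A A' B B' : Type u} [AddCommGroup A] [Module R A] [AddCommGroup B] [Module R B]
  [AddCommGroup A'] [Module R' A'] [AddCommGroup B'] [Module R' B']
variable {𝔸 : ℤ → AddSubgroup A} {𝔹 : ℤ → AddSubgroup B} {𝔸' : ℤ → AddSubgroup A'} {𝔹' : ℤ → AddSubgroup B'}
variable [DirectSum.Decomposition 𝔸] [DirectSum.Decomposition 𝔸'] [DirectSum.Decomposition 𝔹]
  [DirectSum.Decomposition 𝔹']

theorem exists_step {Θ : A' →ₛₗ[φ] A} (hΘ : IsVer q 𝔸 𝔸' Θ) {δ : A →ₗ[R] B} (hδ : GrLC.IsGrHom 𝔸 𝔹 δ)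
    (hs : Function.Surjective δ) {δ' : A' →ₗ[R'] B'} (hδ' : GrLC.IsGrHom 𝔸' 𝔹' δ')
    (hs' : Function.Surjective δ') (hker : ∀ y, δ' y = 0 ↔ δ (Θ y) = 0) :
    ∃ Θ' : B' →ₛₗ[φ] B, IsVer q 𝔹 𝔹' Θ' := by
  have hwell : ∀ y y', δ' y = δ' y' → δ (Θ y) = δ (Θ y') := fun y y' hyy => by
    rw [← sub_eq_zero, ← map_sub δ, ← map_sub Θ, ← hker, map_sub, hyy, sub_self]
  let Θ' : B' →ₛₗ[φ] B :=
    { toFun := fun z => δ (Θ (Function.surjInv hs' z))
      map_add' := fun z w => by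
        rw [← map_add δ, ← map_add Θ]
        exact hwell _ _ (by simp [map_add, Function.surjInv_eq hs'])
      map_smul' := fun c z => by
        rw [← map_smul δ, ← map_smulₛₗ Θ]
        exact hwell _ _ (by simp [map_smul, Function.surjInv_eq hs']) }
  have hΘ' : ∀ y, Θ' (δ' y) = δ (Θ y) := fun y => hwell _ _ (Function.surjInv_eq hs' _)
  refine ⟨Θ', (injective_iff_map_eq_zero _).2 fun z hz => ?_, fun j => ?_⟩
  · obtain ⟨y, rfl⟩ := hs' z
    rw [hΘ'] at hz
    exact (hker y).2 hz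
  · ext b
    constructor
    · rintro ⟨z, hz, rfl⟩
      obtain ⟨y, hy, rfl⟩ := exists_hom_preimage hδ' hz (hs' z)
      exact (hΘ' y).symm ▸ hδ _ _ (hΘ.map_mem hy)
    · intro hb
      obtain ⟨a, ha, rfl⟩ := exists_hom_preimage hδ hb (hs b)
      obtain ⟨y, hy, rfl⟩ := hΘ.exists_preimage ha
      exact ⟨δ' y, hδ' j y hy, hΘ' y⟩

end Step

variable (h : Sys 𝒜 𝒜' φ q)
  (hmsp : m.toIdeal = Ideal.span (⋃ n ∈ Set.Ioi (0 : ℤ), (𝒜 n : Set R)))
  (hm'sp : m'.toIdeal = Ideal.span (⋃ n ∈ Set.Ioi (0 : ℤ), (𝒜' n : Set R')))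

include h hmsp hm'sp

theorem exists_theta_zero (M : GrLC.GMod.{u} 𝒜) (M' : GrLC.GMod.{u} 𝒜') (g : M'.carrier →ₛₗ[φ] M.carrier)
    (hg : IsVer q M.gr M'.gr g) (E : GrLC.StarInjRes 𝒜 M.gr) (F : GrLC.StarInjRes 𝒜' M'.gr) :
    ∃ Θ : F.H m' 0 →ₛₗ[φ] E.H m 0, IsVer q (E.Hgr m 0) (F.Hgr m' 0) Θ ∧
      ∀ x : GrLC.gam m'.toIdeal M'.carrier, Θ (Chain.h0Equiv m' F x) =
        Chain.h0Equiv m E ⟨g x.1, (mem_gam_iff hmsp hm'sp h hg).2 x.2⟩ := by
  let Θ : F.H m' 0 →ₛₗ[φ] E.H m 0 :=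
    { toFun := fun z => Chain.h0Equiv m E ⟨g ((Chain.h0Equiv m' F).symm z).1,
        (mem_gam_iff hmsp hm'sp h hg).2 ((Chain.h0Equiv m' F).symm z).2⟩
      map_add' := fun z w => by
        rw [← map_add (Chain.h0Equiv m E)]
        exact congrArg _ (Subtype.ext (by simp [map_add]))
      map_smul' := fun c z => by
        rw [← map_smul (Chain.h0Equiv m E)]
        exact congrArg _ (Subtype.ext (by simp [map_smulₛₗ])) }
  have hΘ : ∀ x : GrLC.gam m'.toIdeal M'.carrier, Θ (Chain.h0Equiv m' F x) =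
      Chain.h0Equiv m E ⟨g x.1, (mem_gam_iff hmsp hm'sp h hg).2 x.2⟩ := fun x =>
    congrArg _ (Subtype.ext (by simp))
  refine ⟨Θ, ⟨(injective_iff_map_eq_zero _).2 fun z hz => ?_, fun j => ?_⟩, hΘ⟩
  · obtain ⟨x, rfl⟩ := (Chain.h0Equiv m' F).surjective z
    rw [hΘ, LinearEquiv.map_eq_zero_iff] at hz
    have h1 : g x.1 = g 0 := (congrArg Subtype.val hz).trans (map_zero g).symm
    rw [LinearEquiv.map_eq_zero_iff]
    exact Subtype.ext (hg.injective h1)
  · ext b
    constructor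
    · rintro ⟨z, hz, rfl⟩
      exact Chain.h0Map_grHom m (E := E) _ _
        (hg.map_mem (show ((Chain.h0Equiv m' F).symm z).1 ∈ M'.gr j from
          Chain.h0Equiv_symm_grHom m' F j z hz))
    · intro hb
      obtain ⟨x, rfl⟩ := (Chain.h0Equiv m E).surjective b
      have hx : x.1 ∈ M.gr (j * q) := by
        have := Chain.h0Equiv_symm_grHom m E _ _ hb
        have h2 : (Chain.h0Equiv m E).symm (Chain.h0Equiv m E x) = x := LinearEquiv.symm_apply_apply _ _
        exact (congrArg Subtype.val h2) ▸ this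
      obtain ⟨y, hy, hyx⟩ := hg.exists_preimage hx
      have hyt : y ∈ GrLC.gam m'.toIdeal M'.carrier := (mem_gam_iff hmsp hm'sp h hg).1 (hyx ▸ x.2)
      refine ⟨Chain.h0Equiv m' F ⟨y, hyt⟩, Chain.h0Map_grHom m' (E := F) _ _ hy, ?_⟩
      change Θ _ = _
      rw [hΘ]
      exact congrArg _ (Subtype.ext hyx)

/-- Graded local cohomology commutes with passing to Veronese submodules. -/
theorem exists_theta : ∀ (p : ℕ) (M : GrLC.GMod.{u} 𝒜) (M' : GrLC.GMod.{u} 𝒜')
    (g : M'.carrier →ₛₗ[φ] M.carrier), IsVer q M.gr M'.gr g →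
    ∀ (E : GrLC.StarInjRes 𝒜 M.gr) (F : GrLC.StarInjRes 𝒜' M'.gr),
      ∃ Θ : F.H m' p →ₛₗ[φ] E.H m p, IsVer q (E.Hgr m p) (F.Hgr m' p) Θ := by
  intro p
  induction p with
  | zero =>
    intro M M' g hg E F
    obtain ⟨Θ, hΘ, -⟩ := exists_theta_zero h hmsp hm'sp M M' g hg E F
    exact ⟨Θ, hΘ⟩
  | succ p ih =>
    intro M M' g hg E F
    haveI := h.isNoetherianRing
    let P := LinearMap.range E.ε
    have hP : P.IsHomogeneous (E.X 0).gr := isHomogeneous_range E.ε_grHom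
    let X := E.X 0
    let K := qMod 𝒜 X.gr P hP
    let π : X.carrier →ₗ[R] K.carrier := P.mkQ
    have hs : SES M.gr X.gr K.gr E.ε π :=
      { grHom_i := E.ε_grHom
        grHom_π := (ses_quot X P hP).grHom_π
        injective := E.ε_injective
        surjective := P.mkQ_surjective
        exact := Submodule.ker_mkQ P }
    obtain ⟨X', gX, hgX⟩ := exists_ver h X
    obtain ⟨K', gK, hgK⟩ := exists_ver h K
    have hs' := ses_mapVer h hg hgX hgK hs
    obtain ⟨EX⟩ := Res.nonempty_starInjRes 𝒜 X.gr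
    obtain ⟨EK⟩ := Res.nonempty_starInjRes 𝒜 K.gr
    obtain ⟨FX⟩ := Res.nonempty_starInjRes 𝒜' X'.gr
    obtain ⟨FK⟩ := Res.nonempty_starInjRes 𝒜' K'.gr
    obtain ⟨δ, hδ, -, hkδ, hrδ, -⟩ := LES.exists_les E EX EK m hs _ (Chain.lift_ε E EX _ hs.grHom_i)
      _ (Chain.lift_ε EX EK _ hs.grHom_π)
    obtain ⟨δ', hδ', -, hkδ', hrδ', -⟩ := LES.exists_les F FX FK m' hs' _ (Chain.lift_ε F FX _ hs'.grHom_i)
      _ (Chain.lift_ε FX FK _ hs'.grHom_π)
    have hacX : ∀ i, 1 ≤ i → Subsingleton (EX.H m i) := fun i hi =>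
      subsingleton_of_forall_V (fun d => acyclic (sys_id 𝒜) hmsp hmsp X (E.starInj 0) X LinearMap.id
        (isVer_id X.gr) i hi d) EX
    have hacX' : ∀ i, 1 ≤ i → Subsingleton (FX.H m' i) := fun i hi =>
      subsingleton_of_forall_V (fun d => acyclic h hmsp hm'sp X (E.starInj 0) X' gX hgX i hi d) FX
    have hsurj : Function.Surjective (δ p) := by
      rw [← LinearMap.range_eq_top, ← hrδ p, LinearMap.ker_eq_top]
      haveI := hacX (p + 1) p.succ_pos
      exact LinearMap.ext fun x => Subsingleton.elim _ _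
    have hsurj' : Function.Surjective (δ' p) := by
      rw [← LinearMap.range_eq_top, ← hrδ' p, LinearMap.ker_eq_top]
      haveI := hacX' (p + 1) p.succ_pos
      exact LinearMap.ext fun x => Subsingleton.elim _ _
    letI := Res.hgrDecomp EK m p
    letI := Res.hgrDecomp FK m' p
    letI := Res.hgrDecomp E m (p + 1)
    letI := Res.hgrDecomp F m' (p + 1)
    cases p with
    | zero =>
      obtain ⟨Θ, hΘ, hΘ0⟩ := exists_theta_zero h hmsp hm'sp K K' gK hgK EK FK
      refine exists_step hΘ (hδ 0) hsurj (hδ' 0) hsurj' fun y => ?_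
      obtain ⟨z, rfl⟩ := (Chain.h0Equiv m' FK).surjective y
      rw [hΘ0, ← LinearMap.mem_ker, ← LinearMap.mem_ker, hkδ 0, hkδ' 0]
      constructor
      · rintro ⟨w, hw⟩
        obtain ⟨x, rfl⟩ := (Chain.h0Equiv m' FX).surjective w
        rw [h0Map_natural FX FK hs'.grHom_π, (Chain.h0Equiv m' FK).injective.eq_iff] at hw
        refine ⟨Chain.h0Equiv m EX ⟨gX x.1, (mem_gam_iff hmsp hm'sp h hgX).2 x.2⟩, ?_⟩
        rw [h0Map_natural EX EK hs.grHom_π]
        refine congrArg _ (Subtype.ext ?_)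
        change π (gX x.1) = gK z.1
        rw [← hw, map_mapVer h hgX hgK hs.grHom_π]
      · rintro ⟨w, hw⟩
        obtain ⟨x, rfl⟩ := (Chain.h0Equiv m EX).surjective w
        rw [h0Map_natural EX EK hs.grHom_π, (Chain.h0Equiv m EK).injective.eq_iff] at hw
        refine ⟨Chain.h0Equiv m' FX ⟨retr h.pos hgX x.1, retr_mem_gam hmsp hm'sp h hgX x.2⟩, ?_⟩
        rw [h0Map_natural FX FK hs'.grHom_π]
        refine congrArg _ (Subtype.ext (hgK.injective ?_))
        change gK (mapVer h hgX hgK π (retr h.pos hgX x.1)) = gK z.1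
        rw [map_mapVer h hgX hgK hs.grHom_π, ← retr_map h.pos hgX hgK hs.grHom_π,
          show π x.1 = gK z.1 from congrArg Subtype.val hw, retr_apply]
    | succ k =>
      obtain ⟨Θ, hΘ⟩ := ih K K' gK hgK EK FK
      refine exists_step hΘ (hδ _) hsurj (hδ' _) hsurj' fun y => ?_
      rw [← LinearMap.mem_ker, ← LinearMap.mem_ker, hkδ (k + 1), hkδ' (k + 1)]
      haveI := hacX (k + 1) k.succ_pos
      haveI := hacX' (k + 1) k.succ_pos
      constructor
      · rintro ⟨w, rfl⟩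
        rw [Subsingleton.elim w 0, map_zero, map_zero]
        exact zero_mem _
      · rintro ⟨w, hw⟩
        rw [Subsingleton.elim w 0, map_zero] at hw
        rw [hΘ.injective (hw.symm.trans (map_zero Θ).symm)]
        exact zero_mem _

end Groth.Agent.Lib.Graded.Ver
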